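import Groth.Prelude.Def_W4stkadequatePure
import Groth.Prelude.Def_CAlgX
import Groth.Agent.S2057
import Mathlib.Algebra.Module.CharacterModule
import Mathlib.Algebra.Module.FinitePresentation
import Mathlib.LinearAlgebra.DFinsupp
import Mathlib.LinearAlgebra.TensorProduct.RightExactness

/-!
# Pure projective and pure injective modules: basic lemmas
-/

set_option autoImplicit false
universe u

namespace K571.PureBasic

open TensorProduct

section

variable {R : Type u} [CommRing R]

/-- Pure projectivity, in the form used by the statements. -/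
def PureProj (P : Type u) [AddCommGroup P] [Module R P] : Prop :=
  ∀ ⦃L N : Type u⦄ [AddCommGroup L] [Module R L] [AddCommGroup N] [Module R N] (g : L →ₗ[R] N),
    Function.Surjective g → CAlgX.UniversallyInjective R (LinearMap.ker g).subtype →
    ∀ φ : P →ₗ[R] N, ∃ ψ : P →ₗ[R] L, g ∘ₗ ψ = φ

/-- Pure injectivity, in the form used by the statements. -/
def PureInj (I : Type u) [AddCommGroup I] [Module R I] : Prop :=
  ∀ ⦃K L : Type u⦄ [AddCommGroup K] [Module R K] [AddCommGroup L] [Module R L] (f : K →ₗ[R] L),
    CAlgX.UniversallyInjective R f → ∀ φ : K →ₗ[R] I, ∃ ψ : L →ₗ[R] I, ψ ∘ₗ f = φ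

variable {M N L : Type u} [AddCommGroup M] [Module R M] [AddCommGroup N] [Module R N]
  [AddCommGroup L] [Module R L]

theorem injective_of_universallyInjective (f : M →ₗ[R] N) (hf : CAlgX.UniversallyInjective R f) :
    Function.Injective f := by
  have h := hf R
  intro x y hxy
  have h1 : f.rTensor R (x ⊗ₜ 1) = f.rTensor R (y ⊗ₜ 1) := by
    simp [hxy]
  have h2 := h h1
  have h3 := congrArg (TensorProduct.rid R M) h2
  simpa using h3

/-- character modules are pure injective -/
theorem pureInj_character (B : Type u) [AddCommGroup B] [Module R B] :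
    PureInj (R := R) (CharacterModule B) := by
  intro K L _ _ _ _ f hf φ
  obtain ⟨ψ, hψ⟩ := rTensor_injective_iff_lcomp_surjective.mp (hf B) φ
  exact ⟨ψ, hψ⟩

theorem pureInj_of_retract {I J : Type u} [AddCommGroup I] [Module R I] [AddCommGroup J]
    [Module R J] (hJ : PureInj (R := R) J) (s : I →ₗ[R] J) (r : J →ₗ[R] I)
    (h : r ∘ₗ s = LinearMap.id) : PureInj (R := R) I := by
  intro K L _ _ _ _ f hf φ
  obtain ⟨ψ, hψ⟩ := hJ f hf (s ∘ₗ φ)
  refine ⟨r ∘ₗ ψ, ?_⟩
  rw [LinearMap.comp_assoc, hψ, ← LinearMap.comp_assoc, h, LinearMap.id_comp]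

/-- The evaluation into the double character module is universally injective. -/
theorem universallyInjective_charEval : CAlgX.UniversallyInjective R (PureExt.charEval R M) := by
  intro Q _ _
  rw [rTensor_injective_iff_lcomp_surjective]
  intro φ
  refine ⟨(CharacterModule.dual (PureExt.charEval R Q)) ∘ₗ
    (CharacterModule.dual (CharacterModule.dual φ)), ?_⟩
  ext m q
  rfl

/-- Image of a universally exact sequence is pure. -/
theorem universallyInjective_range (f : L →ₗ[R] M) (g : M →ₗ[R] N)
    (h : ∀ (Q : Type u) [AddCommGroup Q] [Module R Q],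
      Function.Exact (f.rTensor Q) (g.rTensor Q)) :
    CAlgX.UniversallyInjective R (LinearMap.range g).subtype := by
  intro Q _ _
  rw [injective_iff_map_eq_zero]
  intro x hx
  have hs : Function.Surjective (g.rangeRestrict.rTensor Q) :=
    LinearMap.rTensor_surjective Q g.surjective_rangeRestrict
  obtain ⟨y, rfl⟩ := hs x
  have h1 : (LinearMap.range g).subtype ∘ₗ g.rangeRestrict = g := by
    ext; rfl
  have h2 : g.rTensor Q y = 0 := by
    rw [← hx, ← LinearMap.comp_apply, ← LinearMap.rTensor_comp, h1]
  obtain ⟨z, rfl⟩ := (h Q y).mp h2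
  -- `g ∘ f = 0`
  have h3 : g ∘ₗ f = 0 := by
    ext l
    have h4 : (g.rTensor R) ((f.rTensor R) (l ⊗ₜ 1)) = 0 := (h R _).mpr ⟨_, rfl⟩
    have h5 := congrArg (TensorProduct.rid R N) h4
    simpa using h5
  have h4 : g.rangeRestrict ∘ₗ f = 0 := by
    ext l
    have := LinearMap.congr_fun h3 l
    simpa using this
  rw [← LinearMap.comp_apply, ← LinearMap.rTensor_comp, h4, LinearMap.rTensor_zero,
    LinearMap.zero_apply]

theorem exact_of_universallyExact (f : L →ₗ[R] M) (g : M →ₗ[R] N)
    (h : ∀ (Q : Type u) [AddCommGroup Q] [Module R Q],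
      Function.Exact (f.rTensor Q) (g.rTensor Q)) : Function.Exact f g := by
  intro m
  have hR := h R (m ⊗ₜ 1)
  have e1 : g.rTensor R (m ⊗ₜ 1) = 0 ↔ g m = 0 := by
    rw [LinearMap.rTensor_tmul]
    rw [← (TensorProduct.rid R N).map_eq_zero_iff]
    simp
  have e2 : (m ⊗ₜ 1 ∈ Set.range (f.rTensor R)) ↔ m ∈ Set.range f := by
    constructor
    · rintro ⟨z, hz⟩
      refine ⟨TensorProduct.rid R L z, ?_⟩
      have h1 := congrArg (TensorProduct.rid R M) hz
      have h2 : TensorProduct.rid R M (f.rTensor R z) = f (TensorProduct.rid R L z) := by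
        induction z with
        | zero => simp
        | tmul a b => simp
        | add a b ha hb => 
          have := hz
          simp only [map_add]
          congr 1
          · exact rid_rTensor f a
          · exact rid_rTensor f b
      rw [← h2, h1]; simp
    · rintro ⟨l, rfl⟩
      exact ⟨l ⊗ₜ 1, by simp⟩
  rw [← e1, hR, e2]
where
  rid_rTensor (f : L →ₗ[R] M) (a : L ⊗[R] R) :
      TensorProduct.rid R M (f.rTensor R a) = f (TensorProduct.rid R L a) := by
    induction a with
    | zero => simp
    | tmul a b => simp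
    | add a b ha hb => simp only [map_add, ha, hb]

end

end K571.PureBasic
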