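import Mathlib.Algebra.Category.ModuleCat.Monoidal.Basic
import Mathlib.CategoryTheory.Monoidal.Preadditive
import Mathlib.Algebra.Homology.QuasiIso
import Mathlib.Algebra.Homology.Additive
import Mathlib.Algebra.Homology.SingleHomology
import Mathlib.Algebra.Homology.ShortComplex.ModuleCat
import Mathlib.Algebra.Category.ModuleCat.Abelian

/-!
# Universally exact resolutions: a criterion in terms of linear maps
-/

set_option autoImplicit false
universe u

namespace K571.PureCrit

open CategoryTheory MonoidalCategory

variable {R : Type u} [CommRing R]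

section chain

variable (P : ChainComplex (ModuleCat.{u} R) ℕ) {M : ModuleCat.{u} R}
  (π : P ⟶ (ChainComplex.single₀ (ModuleCat.{u} R)).obj M)

/-- augmentation as a linear map -/
noncomputable def aug : (P.X 0 : Type u) →ₗ[R] (M : Type u) := (π.f 0).hom

theorem aug_comp : aug P π ∘ₗ (P.d 1 0).hom = 0 := by
  have h := π.comm 1 0
  have h2 : P.d 1 0 ≫ π.f 0 = 0 := by
    rw [← h]
    have : (HomologicalComplex.d ((ChainComplex.single₀ (ModuleCat.{u} R)).obj M) 1 0) = 0 :=
      HomologicalComplex.single_obj_d _ _ _ _ _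
    rw [this, Limits.comp_zero]
  exact congrArg ModuleCat.Hom.hom h2

theorem quasiIso_tensor_iff (T : ModuleCat.{u} R) :
    QuasiIso (((tensorRight T).mapHomologicalComplex (ComplexShape.down ℕ)).map π) ↔
      (Function.Surjective ((aug P π).rTensor T) ∧
        Function.Exact ((P.d 1 0).hom.rTensor T) ((aug P π).rTensor T)) ∧
      ∀ n : ℕ, Function.Exact ((P.d (n + 2) (n + 1)).hom.rTensor T)
        ((P.d (n + 1) n).hom.rTensor T) := by
  have h0 : QuasiIsoAt (((tensorRight T).mapHomologicalComplex (ComplexShape.down ℕ)).map π) 0 ↔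
      (Function.Surjective ((aug P π).rTensor T) ∧
        Function.Exact ((P.d 1 0).hom.rTensor T) ((aug P π).rTensor T)) := by
    rw [ChainComplex.quasiIsoAt₀_iff, ShortComplex.quasiIso_iff_of_zeros']
    · rw [ShortComplex.ShortExact.moduleCat_exact_iff_function_exact, ModuleCat.epi_iff_surjective]
      rw [and_comm]
      rfl
    · have : P.d 0 0 = 0 := P.shape _ _ (by simp)
      change (tensorRight T).map (P.d 0 0) = 0
      rw [this, Functor.map_zero]
    · have : (HomologicalComplex.d ((ChainComplex.single₀ (ModuleCat.{u} R)).obj M) 1 0) = 0 :=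
        HomologicalComplex.single_obj_d _ _ _ _ _
      change (tensorRight T).map (HomologicalComplex.d ((ChainComplex.single₀ (ModuleCat.{u} R)).obj M) 1 0) = 0
      rw [this, Functor.map_zero]
    · have : (HomologicalComplex.d ((ChainComplex.single₀ (ModuleCat.{u} R)).obj M) 0 0) = 0 :=
        HomologicalComplex.single_obj_d _ _ _ _ _
      change (tensorRight T).map (HomologicalComplex.d ((ChainComplex.single₀ (ModuleCat.{u} R)).obj M) 0 0) = 0
      rw [this, Functor.map_zero]
  have h1 : ∀ n : ℕ,
      QuasiIsoAt (((tensorRight T).mapHomologicalComplex (ComplexShape.down ℕ)).map π) (n + 1) ↔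
      Function.Exact ((P.d (n + 2) (n + 1)).hom.rTensor T) ((P.d (n + 1) n).hom.rTensor T) := by
    intro n
    have hz : ((((tensorRight T).mapHomologicalComplex (ComplexShape.down ℕ)).obj
        ((ChainComplex.single₀ (ModuleCat.{u} R)).obj M))).ExactAt (n + 1) := by
      rw [HomologicalComplex.exactAt_iff]
      apply ShortComplex.exact_of_isZero_X₂
      change Limits.IsZero ((tensorRight T).obj (((ChainComplex.single₀ (ModuleCat.{u} R)).obj M).X (n + 1)))
      exact Functor.map_isZero _ (HomologicalComplex.isZero_single_obj_X _ _ _ _ (by simp))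
    rw [quasiIsoAt_iff_exactAt' _ _ hz]
    rw [HomologicalComplex.exactAt_iff' _ (n + 1 + 1) (n + 1) n (by simp) (by simp)]
    rw [ShortComplex.ShortExact.moduleCat_exact_iff_function_exact]
    rfl
  rw [quasiIso_iff]
  constructor
  · intro h
    exact ⟨h0.mp (h 0), fun n => (h1 n).mp (h (n + 1))⟩
  · rintro ⟨h, h'⟩ (_ | n)
    · exact h0.mpr h
    · exact (h1 n).mpr (h' n)

end chain

section cochain

variable (I : CochainComplex (ModuleCat.{u} R) ℕ) {M : ModuleCat.{u} R}
  (η : (CochainComplex.single₀ (ModuleCat.{u} R)).obj M ⟶ I)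

/-- coaugmentation as a linear map -/
noncomputable def coaug : (M : Type u) →ₗ[R] (I.X 0 : Type u) := (η.f 0).hom

theorem comp_coaug : (I.d 0 1).hom ∘ₗ coaug I η = 0 := by
  have h := η.comm 0 1
  have h2 : η.f 0 ≫ I.d 0 1 = 0 := by
    rw [h]
    have : (HomologicalComplex.d ((CochainComplex.single₀ (ModuleCat.{u} R)).obj M) 0 1) = 0 :=
      HomologicalComplex.single_obj_d _ _ _ _ _
    rw [this, Limits.zero_comp]
  exact congrArg ModuleCat.Hom.hom h2

theorem coquasiIso_tensor_iff (T : ModuleCat.{u} R) :
    QuasiIso (((tensorRight T).mapHomologicalComplex (ComplexShape.up ℕ)).map η) ↔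
      (Function.Injective ((coaug I η).rTensor T) ∧
        Function.Exact ((coaug I η).rTensor T) ((I.d 0 1).hom.rTensor T)) ∧
      ∀ n : ℕ, Function.Exact ((I.d n (n + 1)).hom.rTensor T)
        ((I.d (n + 1) (n + 2)).hom.rTensor T) := by
  have h0 : QuasiIsoAt (((tensorRight T).mapHomologicalComplex (ComplexShape.up ℕ)).map η) 0 ↔
      (Function.Injective ((coaug I η).rTensor T) ∧
        Function.Exact ((coaug I η).rTensor T) ((I.d 0 1).hom.rTensor T)) := by
    rw [CochainComplex.quasiIsoAt₀_iff, ShortComplex.quasiIso_iff_of_zeros]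
    · rw [ShortComplex.ShortExact.moduleCat_exact_iff_function_exact, ModuleCat.mono_iff_injective]
      rw [and_comm]
      rfl
    · have : (HomologicalComplex.d ((CochainComplex.single₀ (ModuleCat.{u} R)).obj M) 0 0) = 0 :=
        HomologicalComplex.single_obj_d _ _ _ _ _
      change (tensorRight T).map (HomologicalComplex.d ((CochainComplex.single₀ (ModuleCat.{u} R)).obj M) 0 0) = 0
      rw [this, Functor.map_zero]
    · have : (HomologicalComplex.d ((CochainComplex.single₀ (ModuleCat.{u} R)).obj M) 0 1) = 0 :=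
        HomologicalComplex.single_obj_d _ _ _ _ _
      change (tensorRight T).map (HomologicalComplex.d ((CochainComplex.single₀ (ModuleCat.{u} R)).obj M) 0 1) = 0
      rw [this, Functor.map_zero]
    · have : I.d 0 0 = 0 := I.shape _ _ (by simp)
      change (tensorRight T).map (I.d 0 0) = 0
      rw [this, Functor.map_zero]
  have h1 : ∀ n : ℕ,
      QuasiIsoAt (((tensorRight T).mapHomologicalComplex (ComplexShape.up ℕ)).map η) (n + 1) ↔
      Function.Exact ((I.d n (n + 1)).hom.rTensor T) ((I.d (n + 1) (n + 2)).hom.rTensor T) := by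
    intro n
    have hz : ((((tensorRight T).mapHomologicalComplex (ComplexShape.up ℕ)).obj
        ((CochainComplex.single₀ (ModuleCat.{u} R)).obj M))).ExactAt (n + 1) := by
      rw [HomologicalComplex.exactAt_iff]
      apply ShortComplex.exact_of_isZero_X₂
      change Limits.IsZero ((tensorRight T).obj (((CochainComplex.single₀ (ModuleCat.{u} R)).obj M).X (n + 1)))
      exact Functor.map_isZero _ (HomologicalComplex.isZero_single_obj_X _ _ _ _ (by simp))
    rw [quasiIsoAt_iff_exactAt _ _ hz]
    rw [HomologicalComplex.exactAt_iff' _ n (n + 1) (n + 1 + 1) (by simp) (by simp)]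
    rw [ShortComplex.ShortExact.moduleCat_exact_iff_function_exact]
    rfl
  rw [quasiIso_iff]
  constructor
  · intro h
    exact ⟨h0.mp (h 0), fun n => (h1 n).mp (h (n + 1))⟩
  · rintro ⟨h, h'⟩ (_ | n)
    · exact h0.mpr h
    · exact (h1 n).mpr (h' n)

end cochain

end K571.PureCrit
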