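import Groth.Agent.PureExt.K571.Res

/-!
# Existence of pure projective and pure injective resolutions
-/

set_option autoImplicit false
universe u

namespace K571.PureExist

open CategoryTheory K571.PureBasic K571.PureLift MonoidalCategory

variable {R : Type u} [CommRing R]

theorem uexact_of {A B K C : Type u} [AddCommGroup A] [Module R A] [AddCommGroup B] [Module R B]
    [AddCommGroup K] [Module R K] [AddCommGroup C] [Module R C] (f : A →ₗ[R] B) (q : B →ₗ[R] K)
    (ι : K →ₗ[R] C) (hex : Function.Exact f q) (hq : Function.Surjective q)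
    (hι : CAlgX.UniversallyInjective R ι) (T : Type u) [AddCommGroup T] [Module R T] :
    Function.Exact (f.rTensor T) ((ι ∘ₗ q).rTensor T) := by
  have h := rTensor_exact T hex hq
  intro x
  rw [LinearMap.rTensor_comp, LinearMap.comp_apply, ← h x]
  constructor
  · intro h0
    exact hι T (h0.trans (map_zero _).symm)
  · intro h0
    rw [h0, map_zero]

section projective

/-- A pure cover of `M`. -/
theorem exists_cov (M : ModuleCat.{u} R) : ∃ (P : ModuleCat.{u} R) (g : P ⟶ M),
    (∃ (ι : Type u) (Q : ι → Type u) (_ : ∀ i, AddCommGroup (Q i)) (_ : ∀ i, Module R (Q i)),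
        (∀ i, Module.FinitePresentation R (Q i)) ∧
        ∃ (s : P →ₗ[R] (Π₀ i, Q i)) (r : (Π₀ i, Q i) →ₗ[R] P), r ∘ₗ s = LinearMap.id) ∧
    Function.Surjective g.hom ∧ CAlgX.UniversallyInjective R (LinearMap.ker g.hom).subtype := by
  obtain ⟨ι, Q, h1, h2, hfp, g, hg, hker⟩ := exists_pure_cover (R := R) M
  refine ⟨ModuleCat.of R (Π₀ i, Q i), ModuleCat.ofHom g, ⟨ι, Q, h1, h2, hfp, LinearMap.id,
    LinearMap.id, ?_⟩, hg, hker⟩
  rfl

noncomputable def cov (M : ModuleCat.{u} R) : ModuleCat.{u} R := (exists_cov M).choose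

noncomputable def covπ (M : ModuleCat.{u} R) : cov M ⟶ M := (exists_cov M).choose_spec.choose

theorem cov_spec (M : ModuleCat.{u} R) :
    ∃ (ι : Type u) (Q : ι → Type u) (_ : ∀ i, AddCommGroup (Q i)) (_ : ∀ i, Module R (Q i)),
        (∀ i, Module.FinitePresentation R (Q i)) ∧
        ∃ (s : cov M →ₗ[R] (Π₀ i, Q i)) (r : (Π₀ i, Q i) →ₗ[R] cov M), r ∘ₗ s = LinearMap.id :=
  (exists_cov M).choose_spec.choose_spec.1

theorem covπ_surjective (M : ModuleCat.{u} R) : Function.Surjective (covπ M).hom :=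
  (exists_cov M).choose_spec.choose_spec.2.1

theorem covπ_ker (M : ModuleCat.{u} R) :
    CAlgX.UniversallyInjective R (LinearMap.ker (covπ M).hom).subtype :=
  (exists_cov M).choose_spec.choose_spec.2.2

/-- Syzygies. -/
noncomputable def syz (M : ModuleCat.{u} R) : ℕ → ModuleCat.{u} R
  | 0 => M
  | n + 1 => ModuleCat.of R (LinearMap.ker (covπ (syz M n)).hom)

noncomputable def incl (M : ModuleCat.{u} R) (n : ℕ) : syz M (n + 1) ⟶ cov (syz M n) :=
  ModuleCat.ofHom (LinearMap.ker (covπ (syz M n)).hom).subtype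

theorem incl_cov (M : ModuleCat.{u} R) (n : ℕ) : incl M n ≫ covπ (syz M n) = 0 := by
  ext x
  exact x.2

noncomputable def dP (M : ModuleCat.{u} R) (n : ℕ) : cov (syz M (n + 1)) ⟶ cov (syz M n) :=
  covπ (syz M (n + 1)) ≫ incl M n

theorem dP_cov (M : ModuleCat.{u} R) (n : ℕ) : dP M n ≫ covπ (syz M n) = 0 := by
  rw [dP, Category.assoc, incl_cov, Limits.comp_zero]

theorem dP_dP (M : ModuleCat.{u} R) (n : ℕ) : dP M (n + 1) ≫ dP M n = 0 := by
  rw [dP.eq_def M n, ← Category.assoc, dP_cov, Limits.zero_comp]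

theorem dP_exact (M : ModuleCat.{u} R) (n : ℕ) : Function.Exact (dP M n).hom (covπ (syz M n)).hom := by
  intro x
  constructor
  · intro hx
    obtain ⟨y, hy⟩ := covπ_surjective (syz M (n + 1)) ⟨x, hx⟩
    refine ⟨y, ?_⟩
    exact congrArg Subtype.val hy
  · rintro ⟨y, rfl⟩
    exact congrArg (fun f => ModuleCat.Hom.hom f y) (dP_cov M n)

noncomputable def resP (M : ModuleCat.{u} R) : ChainComplex (ModuleCat.{u} R) ℕ :=
  ChainComplex.of (fun n => cov (syz M n)) (dP M) (dP_dP M)

theorem resP_d (M : ModuleCat.{u} R) (n : ℕ) : (resP M).d (n + 1) n = dP M n :=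
  ChainComplex.of_d (fun n => cov (syz M n)) (dP M) n

noncomputable def resPπ (M : ModuleCat.{u} R) :
    resP M ⟶ (ChainComplex.single₀ (ModuleCat.{u} R)).obj M :=
  (ChainComplex.toSingle₀Equiv (resP M) M).symm ⟨covπ M, by rw [resP_d]; exact dP_cov M 0⟩

theorem resPπ_f (M : ModuleCat.{u} R) : PureCrit.aug (resP M) (resPπ M) = (covπ M).hom := by
  rw [PureCrit.aug, resPπ]
  exact congrArg ModuleCat.Hom.hom (ChainComplex.toSingle₀Equiv_symm_apply_f_zero _ _)

theorem resP_quasiIso (M N : ModuleCat.{u} R) :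
    QuasiIso (((tensorRight N).mapHomologicalComplex (ComplexShape.down ℕ)).map (resPπ M)) := by
  rw [PureCrit.quasiIso_tensor_iff, resPπ_f, resP_d]
  refine ⟨⟨LinearMap.rTensor_surjective _ (covπ_surjective M), ?_⟩, fun n => ?_⟩
  · exact rTensor_exact _ (dP_exact M 0) (covπ_surjective M)
  · rw [resP_d, resP_d]
    exact uexact_of (dP M (n + 1)).hom (covπ (syz M (n + 1))).hom (incl M n).hom (dP_exact M (n + 1))
      (covπ_surjective _) (covπ_ker (syz M n)) N

end projective

section injective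

/-- The double character module. -/
noncomputable def dd (M : ModuleCat.{u} R) : ModuleCat.{u} R :=
  ModuleCat.of R (CharacterModule (CharacterModule M))

noncomputable def ddι (M : ModuleCat.{u} R) : M ⟶ dd M := ModuleCat.ofHom (PureExt.charEval R M)

theorem dd_pureInj (M : ModuleCat.{u} R) : PureInj (R := R) (dd M) :=
  pureInj_character (R := R) (CharacterModule M)

theorem ddι_uinj (M : ModuleCat.{u} R) : CAlgX.UniversallyInjective R (ddι M).hom :=
  universallyInjective_charEval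

noncomputable def cosyz (M : ModuleCat.{u} R) : ℕ → ModuleCat.{u} R
  | 0 => M
  | n + 1 => ModuleCat.of R (dd (cosyz M n) ⧸ LinearMap.range (ddι (cosyz M n)).hom)

noncomputable def proj (M : ModuleCat.{u} R) (n : ℕ) : dd (cosyz M n) ⟶ cosyz M (n + 1) :=
  ModuleCat.ofHom (LinearMap.range (ddι (cosyz M n)).hom).mkQ

theorem proj_surjective (M : ModuleCat.{u} R) (n : ℕ) : Function.Surjective (proj M n).hom :=
  Submodule.mkQ_surjective _

theorem ddι_proj (M : ModuleCat.{u} R) (n : ℕ) : ddι (cosyz M n) ≫ proj M n = 0 := by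
  ext x
  exact (Submodule.Quotient.mk_eq_zero _).mpr ⟨x, rfl⟩

theorem ddι_proj_exact (M : ModuleCat.{u} R) (n : ℕ) :
    Function.Exact (ddι (cosyz M n)).hom (proj M n).hom :=
  LinearMap.exact_map_mkQ_range _

noncomputable def dI (M : ModuleCat.{u} R) (n : ℕ) : dd (cosyz M n) ⟶ dd (cosyz M (n + 1)) :=
  proj M n ≫ ddι (cosyz M (n + 1))

theorem ddι_dI (M : ModuleCat.{u} R) (n : ℕ) : ddι (cosyz M n) ≫ dI M n = 0 := by
  rw [dI, ← Category.assoc, ddι_proj, Limits.zero_comp]

theorem dI_dI (M : ModuleCat.{u} R) (n : ℕ) : dI M n ≫ dI M (n + 1) = 0 := by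
  rw [dI.eq_def M n, Category.assoc, ddι_dI, Limits.comp_zero]

theorem dI_proj_exact (M : ModuleCat.{u} R) (n : ℕ) :
    Function.Exact (dI M n).hom (proj M (n + 1)).hom := by
  intro x
  rw [ddι_proj_exact M (n + 1) x]
  constructor
  · rintro ⟨y, rfl⟩
    obtain ⟨z, rfl⟩ := proj_surjective M n y
    exact ⟨z, rfl⟩
  · rintro ⟨z, rfl⟩
    exact ⟨(proj M n).hom z, rfl⟩

noncomputable def resI (M : ModuleCat.{u} R) : CochainComplex (ModuleCat.{u} R) ℕ :=
  CochainComplex.of (fun n => dd (cosyz M n)) (dI M) (dI_dI M)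

theorem resI_d (M : ModuleCat.{u} R) (n : ℕ) : (resI M).d n (n + 1) = dI M n :=
  CochainComplex.of_d (fun n => dd (cosyz M n)) (dI M) n

noncomputable def resIη (M : ModuleCat.{u} R) :
    (CochainComplex.single₀ (ModuleCat.{u} R)).obj M ⟶ resI M :=
  (CochainComplex.fromSingle₀Equiv (resI M) M).symm ⟨ddι M, by rw [resI_d]; exact ddι_dI M 0⟩

theorem resIη_f (M : ModuleCat.{u} R) : PureCrit.coaug (resI M) (resIη M) = (ddι M).hom := by
  rw [PureCrit.coaug, resIη]
  exact congrArg ModuleCat.Hom.hom (CochainComplex.fromSingle₀Equiv_symm_apply_f_zero _ _)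

theorem resI_quasiIso (M N : ModuleCat.{u} R) :
    QuasiIso (((tensorRight N).mapHomologicalComplex (ComplexShape.up ℕ)).map (resIη M)) := by
  rw [PureCrit.coquasiIso_tensor_iff, resIη_f, resI_d]
  refine ⟨⟨ddι_uinj M N, ?_⟩, fun n => ?_⟩
  · exact uexact_of (ddι M).hom (proj M 0).hom (ddι (cosyz M 1)).hom (ddι_proj_exact M 0)
      (proj_surjective M 0) (ddι_uinj _) N
  · rw [resI_d, resI_d]
    exact uexact_of (dI M n).hom (proj M (n + 1)).hom (ddι (cosyz M (n + 2))).hom
      (dI_proj_exact M n) (proj_surjective M _) (ddι_uinj _) N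

end injective

end K571.PureExist
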