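import Groth.Agent.PureExt.K571.Basic

/-!
# Pure projective modules: finitely presented modules and their direct sums
-/

set_option autoImplicit false
universe u

namespace K571.PureLift

open TensorProduct K571.PureBasic

variable {R : Type u} [CommRing R]

theorem exists_desc {A B C : Type*} [AddCommGroup A] [Module R A] [AddCommGroup B] [Module R B]
    [AddCommGroup C] [Module R C] (f : A →ₗ[R] B) (hf : Function.Surjective f) (ψ : A →ₗ[R] C)
    (h : LinearMap.ker f ≤ LinearMap.ker ψ) : ∃ χ : B →ₗ[R] C, χ ∘ₗ f = ψ := by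
  refine ⟨(LinearMap.ker f).liftQ ψ h ∘ₗ (f.quotKerEquivOfSurjective hf).symm.toLinearMap, ?_⟩
  ext a
  simp only [LinearMap.comp_apply, LinearEquiv.coe_coe]
  have : (f.quotKerEquivOfSurjective hf).symm (f a) = (LinearMap.ker f).mkQ a := by
    rw [LinearEquiv.symm_apply_eq]; rfl
  rw [this, Submodule.mkQ_apply, Submodule.liftQ_apply]

/-- Finitely presented modules are pure projective. -/
theorem pureProj_of_finitePresentation (Q : Type u) [AddCommGroup Q] [Module R Q]
    [Module.FinitePresentation R Q] : PureProj (R := R) Q := by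
  intro L N _ _ _ _ g hg hker φ
  obtain ⟨m, n, f, r, hf, hex⟩ := Module.FinitePresentation.exists_fin' R Q
  let e : Fin m → (Fin m → R) := fun j => Pi.basisFun R (Fin m) j
  let a : Fin n → Fin m → R := fun i j => r (Pi.basisFun R (Fin n) i) j
  have hae : ∀ i, r (Pi.basisFun R (Fin n) i) = ∑ j, a i j • e j := by
    intro i
    exact ((Pi.basisFun R (Fin m)).sum_repr (r (Pi.basisFun R (Fin n) i))).symm
  choose y hy using fun j => hg (φ (f (e j)))
  have hx : ∀ i, ∑ j, a i j • y j ∈ LinearMap.ker g := by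
    intro i
    rw [LinearMap.mem_ker, map_sum]
    simp only [map_smul, hy]
    have : f (r (Pi.basisFun R (Fin n) i)) = 0 := (hex _).mpr ⟨_, rfl⟩
    rw [hae] at this
    have h2 := congrArg φ this
    simpa only [map_sum, map_smul, map_zero] using h2
  obtain ⟨z, hz⟩ := (S2057_equational (LinearMap.ker g).subtype hker) n m
    (fun i => ⟨_, hx i⟩) y a (fun i => rfl)
  let ψ₀ : (Fin m → R) →ₗ[R] L := (Pi.basisFun R (Fin m)).constr R fun j => y j - (z j : L)
  have hψe : ∀ j, ψ₀ (e j) = y j - (z j : L) := fun j => (Pi.basisFun R (Fin m)).constr_basis R _ j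
  have h0 : ψ₀ ∘ₗ r = 0 := by
    refine (Pi.basisFun R (Fin n)).ext fun i => ?_
    rw [LinearMap.comp_apply, hae, map_sum]
    simp only [map_smul, hψe, smul_sub, Finset.sum_sub_distrib, LinearMap.zero_apply]
    rw [sub_eq_zero]
    have h3 := congrArg Subtype.val (hz i)
    simpa using h3
  obtain ⟨ψ, hψ⟩ := exists_desc f hf ψ₀ (by
    intro v hv
    obtain ⟨w, rfl⟩ := (hex v).mp hv
    exact LinearMap.congr_fun h0 w)
  refine ⟨ψ, ?_⟩
  have h4 : (g ∘ₗ ψ) ∘ₗ f = φ ∘ₗ f := by
    rw [LinearMap.comp_assoc, hψ]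
    refine (Pi.basisFun R (Fin m)).ext fun j => ?_
    have h5 := hψe j
    simp only [e] at h5
    rw [LinearMap.comp_apply, h5, map_sub, hy, LinearMap.mem_ker.mp (z j).2, sub_zero]
    rfl
  ext q
  obtain ⟨v, rfl⟩ := hf q
  exact LinearMap.congr_fun h4 v
where
  S2057_equational {K L : Type u} [AddCommGroup K] [Module R K] [AddCommGroup L] [Module R L]
      (f : K →ₗ[R] L) (hf : CAlgX.UniversallyInjective R f) :=
    (Groth.Agent.S2057.result f (injective_of_universallyInjective f hf)).mp hf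

/-- If maps from finitely presented modules lift along `g`, the kernel of `g` is pure. -/
theorem universallyInjective_ker_of_lift {L N : Type u} [AddCommGroup L] [Module R L]
    [AddCommGroup N] [Module R N] (g : L →ₗ[R] N)
    (h : ∀ (n : ℕ) (K : Submodule R (Fin n → R)), K.FG → ∀ φ : ((Fin n → R) ⧸ K) →ₗ[R] N,
      ∃ ψ : ((Fin n → R) ⧸ K) →ₗ[R] L, g ∘ₗ ψ = φ) :
    CAlgX.UniversallyInjective R (LinearMap.ker g).subtype := by
  rw [Groth.Agent.S2057.result _ (Submodule.injective_subtype _)]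
  intro n m x y a hxy
  let K : Submodule R (Fin m → R) := Submodule.span R (Set.range a)
  let φ₀ : (Fin m → R) →ₗ[R] N := (Pi.basisFun R (Fin m)).constr R fun j => g (y j)
  have hφ₀ : ∀ c : Fin m → R, φ₀ c = ∑ j, c j • g (y j) := by
    intro c
    simp [φ₀, Module.Basis.constr_apply_fintype]
  have hK : K ≤ LinearMap.ker φ₀ := by
    rw [Submodule.span_le]
    rintro _ ⟨i, rfl⟩
    change φ₀ (a i) = 0
    rw [hφ₀]
    have h1 := congrArg g (hxy i)
    rw [map_sum] at h1
    simp only [map_smul] at h1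
    rw [← h1]
    exact (x i).2
  obtain ⟨ψ, hψ⟩ := h m K (Submodule.fg_span (Set.finite_range _)) (K.liftQ φ₀ hK)
  have hy' : ∀ j, g (ψ (K.mkQ (Pi.basisFun R (Fin m) j))) = g (y j) := by
    intro j
    have := LinearMap.congr_fun hψ (K.mkQ (Pi.basisFun R (Fin m) j))
    rw [LinearMap.comp_apply] at this
    rw [this, Submodule.mkQ_apply, Submodule.liftQ_apply]
    exact (Pi.basisFun R (Fin m)).constr_basis R _ j
  refine ⟨fun j => ⟨y j - ψ (K.mkQ (Pi.basisFun R (Fin m) j)), ?_⟩, fun i => ?_⟩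
  · rw [LinearMap.mem_ker, map_sub, hy', sub_self]
  · apply Subtype.ext
    have h1 := hxy i
    simp only [Submodule.subtype_apply] at h1
    rw [h1]
    simp only [Submodule.coe_sum, Submodule.coe_smul, smul_sub, Finset.sum_sub_distrib]
    have h2 : ∑ j, a i j • ψ (K.mkQ (Pi.basisFun R (Fin m) j)) = 0 := by
      simp only [← map_smul, ← map_sum]
      have h3 : ∑ j, a i j • (Pi.basisFun R (Fin m) j) = a i :=
        (Pi.basisFun R (Fin m)).sum_repr (a i)
      rw [h3, Submodule.mkQ_apply, (Submodule.Quotient.mk_eq_zero K).mpr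
        (Submodule.subset_span ⟨i, rfl⟩), map_zero]
    rw [h2, sub_zero]

/-- Direct sums of pure projectives are pure projective. -/
theorem pureProj_dfinsupp {ι : Type u} (Q : ι → Type u) [∀ i, AddCommGroup (Q i)]
    [∀ i, Module R (Q i)] (hQ : ∀ i, PureProj (R := R) (Q i)) :
    PureProj (R := R) (Π₀ i, Q i) := by
  classical
  intro L N _ _ _ _ g hg hker φ
  choose ψ hψ using fun i => hQ i g hg hker (φ ∘ₗ DFinsupp.lsingle i)
  refine ⟨DFinsupp.lsum ℕ ψ, ?_⟩
  refine DFinsupp.lhom_ext fun i x => ?_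
  rw [LinearMap.comp_apply, DFinsupp.lsum_single]
  exact LinearMap.congr_fun (hψ i) x

theorem pureProj_of_retract {P Q : Type u} [AddCommGroup P] [Module R P] [AddCommGroup Q]
    [Module R Q] (hQ : PureProj (R := R) Q) (s : P →ₗ[R] Q) (r : Q →ₗ[R] P)
    (h : r ∘ₗ s = LinearMap.id) : PureProj (R := R) P := by
  intro L N _ _ _ _ g hg hker φ
  obtain ⟨ψ, hψ⟩ := hQ g hg hker (φ ∘ₗ r)
  refine ⟨ψ ∘ₗ s, ?_⟩
  rw [← LinearMap.comp_assoc, hψ, LinearMap.comp_assoc, h, LinearMap.comp_id]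

/-- Every module has a pure cover by a direct sum of finitely presented modules. -/
theorem exists_pure_cover (M : Type u) [AddCommGroup M] [Module R M] :
    ∃ (ι : Type u) (Q : ι → Type u) (_ : ∀ i, AddCommGroup (Q i)) (_ : ∀ i, Module R (Q i)),
      (∀ i, Module.FinitePresentation R (Q i)) ∧
      ∃ g : (Π₀ i, Q i) →ₗ[R] M, Function.Surjective g ∧
        CAlgX.UniversallyInjective R (LinearMap.ker g).subtype := by
  classical
  let ι : Type u := Σ (n : ℕ) (K : {K : Submodule R (Fin n → R) // K.FG}),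
    ((Fin n → R) ⧸ K.1) →ₗ[R] M
  let Q : ι → Type u := fun i => (Fin i.1 → R) ⧸ i.2.1.1
  let _ : ∀ i, AddCommGroup (Q i) := fun i => inferInstanceAs (AddCommGroup ((Fin i.1 → R) ⧸ i.2.1.1))
  let _ : ∀ i, Module R (Q i) := fun i => inferInstanceAs (Module R ((Fin i.1 → R) ⧸ i.2.1.1))
  let g : (Π₀ i, Q i) →ₗ[R] M := DFinsupp.lsum ℕ fun i => i.2.2
  have hlift : ∀ (n : ℕ) (K : Submodule R (Fin n → R)), K.FG → ∀ φ : ((Fin n → R) ⧸ K) →ₗ[R] M,
      ∃ ψ : ((Fin n → R) ⧸ K) →ₗ[R] (Π₀ i, Q i), g ∘ₗ ψ = φ := by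
    intro n K hK φ
    let i : ι := ⟨n, ⟨K, hK⟩, φ⟩
    refine ⟨DFinsupp.lsingle (M := Q) i, ?_⟩
    refine LinearMap.ext fun x => ?_
    exact DFinsupp.lsum_single ℕ (fun i : ι => i.2.2) i x
  refine ⟨ι, Q, inferInstance, inferInstance, fun i => ?_, g, ?_,
    universallyInjective_ker_of_lift g hlift⟩
  · exact Module.finitePresentation_of_surjective i.2.1.1.mkQ (Submodule.mkQ_surjective _)
      (by rw [Submodule.ker_mkQ]; exact i.2.1.2)
  · intro x
    let φ₀ : (Fin 1 → R) →ₗ[R] M := (Pi.basisFun R (Fin 1)).constr R fun _ => x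
    obtain ⟨ψ, hψ⟩ := hlift 1 ⊥ Submodule.fg_bot ((⊥ : Submodule R (Fin 1 → R)).liftQ φ₀ bot_le)
    refine ⟨ψ (Submodule.mkQ _ (Pi.basisFun R (Fin 1) 0)), ?_⟩
    have := LinearMap.congr_fun hψ (Submodule.mkQ _ (Pi.basisFun R (Fin 1) 0))
    rw [LinearMap.comp_apply] at this
    rw [this, Submodule.mkQ_apply, Submodule.liftQ_apply]
    exact (Pi.basisFun R (Fin 1)).constr_basis R _ 0

end K571.PureLift
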