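import Mathlib.Algebra.Homology.Homotopy
import Mathlib.Algebra.Homology.Single
import Mathlib.Algebra.Homology.Additive

/-!
# Comparison of relative resolutions

Given an augmented chain complex `P → M` whose terms lift through the differentials of an augmented
chain complex `Q → N`, every map `M → N` lifts to a chain map, unique up to homotopy.  Dually for
cochain complexes.
-/

set_option autoImplicit false

namespace K571.RelRes

open CategoryTheory CategoryTheory.Limits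

universe v w

variable {V : Type w} [Category.{v} V] [Preadditive V] [HasZeroObject V]

section chain

variable (P Q : ChainComplex V ℕ) {M N : V}
  (π : P ⟶ (ChainComplex.single₀ V).obj M) (ε : Q ⟶ (ChainComplex.single₀ V).obj N)

/-- the augmentation `P.X 0 ⟶ M` -/
noncomputable abbrev aug {P : ChainComplex V ℕ} {M : V}
    (π : P ⟶ (ChainComplex.single₀ V).obj M) : P.X 0 ⟶ M := π.f 0

theorem d_aug : P.d 1 0 ≫ aug π = 0 := by
  have h := π.comm 1 0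
  have : (HomologicalComplex.d ((ChainComplex.single₀ V).obj M) 1 0) = 0 :=
    HomologicalComplex.single_obj_d _ _ _ _ _
  rw [this, comp_zero] at h
  exact h.symm

theorem exists_chainMap (f : M ⟶ N)
    (h0 : ∀ φ : P.X 0 ⟶ N, ∃ ψ : P.X 0 ⟶ Q.X 0, ψ ≫ aug ε = φ)
    (h1 : ∀ (n : ℕ) (φ : P.X n ⟶ Q.X 0), φ ≫ aug ε = 0 → ∃ ψ : P.X n ⟶ Q.X 1, ψ ≫ Q.d 1 0 = φ)
    (hs : ∀ (n m : ℕ) (φ : P.X n ⟶ Q.X (m + 1)), φ ≫ Q.d (m + 1) m = 0 →
      ∃ ψ : P.X n ⟶ Q.X (m + 2), ψ ≫ Q.d (m + 2) (m + 1) = φ) :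
    ∃ φ : P ⟶ Q, φ ≫ ε = π ≫ (ChainComplex.single₀ V).map f := by
  obtain ⟨zero, hzero⟩ := h0 (aug π ≫ f)
  have h1' := h1 1 (P.d 1 0 ≫ zero) (by rw [Category.assoc, hzero, ← Category.assoc, d_aug, zero_comp])
  obtain ⟨one, hone⟩ := h1'
  have hsucc : ∀ (n : ℕ) (p : Σ' (f : P.X n ⟶ Q.X n) (f' : P.X (n + 1) ⟶ Q.X (n + 1)),
      f' ≫ Q.d (n + 1) n = P.d (n + 1) n ≫ f),
      ∃ f'' : P.X (n + 2) ⟶ Q.X (n + 2), f'' ≫ Q.d (n + 2) (n + 1) = P.d (n + 2) (n + 1) ≫ p.2.1 := by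
    rintro n ⟨f, f', hf⟩
    exact hs _ _ _ (by rw [Category.assoc, hf, ← Category.assoc, HomologicalComplex.d_comp_d, zero_comp])
  refine ⟨ChainComplex.mkHom P Q zero one hone
    (fun n p => ⟨Classical.choose (hsucc n p), Classical.choose_spec (hsucc n p)⟩), ?_⟩
  apply HomologicalComplex.to_single_hom_ext
  rw [HomologicalComplex.comp_f, HomologicalComplex.comp_f, ChainComplex.mkHom_f_0,
    ChainComplex.single₀_map_f_zero]
  exact hzero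

theorem nonempty_homotopy (α β : P ⟶ Q) (hαβ : α ≫ ε = β ≫ ε)
    (h1 : ∀ (n : ℕ) (φ : P.X n ⟶ Q.X 0), φ ≫ aug ε = 0 → ∃ ψ : P.X n ⟶ Q.X 1, ψ ≫ Q.d 1 0 = φ)
    (hs : ∀ (n m : ℕ) (φ : P.X n ⟶ Q.X (m + 1)), φ ≫ Q.d (m + 1) m = 0 →
      ∃ ψ : P.X n ⟶ Q.X (m + 2), ψ ≫ Q.d (m + 2) (m + 1) = φ) :
    Nonempty (Homotopy α β) := by
  refine ⟨Homotopy.equivSubZero.symm ?_⟩
  apply Classical.choice
  generalize he : α - β = e
  have he0 : e.f 0 ≫ aug ε = 0 := by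
    rw [← he, HomologicalComplex.sub_f_apply, Preadditive.sub_comp, sub_eq_zero]
    exact congrArg (fun g => HomologicalComplex.Hom.f g 0) hαβ
  obtain ⟨zero, hzero⟩ := h1 0 (e.f 0) he0
  obtain ⟨one, hone⟩ := hs 1 0 (e.f 1 - P.d 1 0 ≫ zero) (by
    rw [Preadditive.sub_comp, Category.assoc, hzero, HomologicalComplex.Hom.comm, sub_self])
  have hsucc : ∀ (n : ℕ) (p : Σ' (f : P.X n ⟶ Q.X (n + 1)) (f' : P.X (n + 1) ⟶ Q.X (n + 2)),
      e.f (n + 1) = P.d (n + 1) n ≫ f + f' ≫ Q.d (n + 2) (n + 1)),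
      ∃ f'' : P.X (n + 2) ⟶ Q.X (n + 3),
        e.f (n + 2) = P.d (n + 2) (n + 1) ≫ p.2.1 + f'' ≫ Q.d (n + 3) (n + 2) := by
    rintro n ⟨f, f', hf⟩
    obtain ⟨g, hg⟩ := hs (n + 2) (n + 1) (e.f (n + 2) - P.d (n + 2) (n + 1) ≫ f') (by
      rw [Preadditive.sub_comp, Category.assoc, HomologicalComplex.Hom.comm, hf,
        Preadditive.comp_add, ← Category.assoc, HomologicalComplex.d_comp_d, zero_comp, zero_add,
        sub_self])
    exact ⟨g, by rw [hg]; simp⟩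
  exact ⟨Homotopy.mkInductive e zero hzero.symm one (by rw [hone]; simp)
    (fun n p => ⟨Classical.choose (hsucc n p), Classical.choose_spec (hsucc n p)⟩)⟩

end chain

section cochain

variable (P Q : CochainComplex V ℕ) {M N : V}
  (η : (CochainComplex.single₀ V).obj M ⟶ P) (ε : (CochainComplex.single₀ V).obj N ⟶ Q)

/-- the coaugmentation `M ⟶ P.X 0` -/
noncomputable abbrev coaug {P : CochainComplex V ℕ} {M : V}
    (η : (CochainComplex.single₀ V).obj M ⟶ P) : M ⟶ P.X 0 := η.f 0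

theorem coaug_d {P : CochainComplex V ℕ} {M : V}
    (η : (CochainComplex.single₀ V).obj M ⟶ P) : coaug η ≫ P.d 0 1 = 0 := by
  have h := η.comm 0 1
  have : (HomologicalComplex.d ((CochainComplex.single₀ V).obj M) 0 1) = 0 :=
    HomologicalComplex.single_obj_d _ _ _ _ _
  rw [this, zero_comp] at h
  exact h

theorem exists_cochainMap (f : M ⟶ N)
    (h0 : ∀ φ : M ⟶ Q.X 0, ∃ ψ : P.X 0 ⟶ Q.X 0, coaug η ≫ ψ = φ)
    (h1 : ∀ (n : ℕ) (φ : P.X 0 ⟶ Q.X n), coaug η ≫ φ = 0 → ∃ ψ : P.X 1 ⟶ Q.X n, P.d 0 1 ≫ ψ = φ)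
    (hs : ∀ (n m : ℕ) (φ : P.X (m + 1) ⟶ Q.X n), P.d m (m + 1) ≫ φ = 0 →
      ∃ ψ : P.X (m + 2) ⟶ Q.X n, P.d (m + 1) (m + 2) ≫ ψ = φ) :
    ∃ φ : P ⟶ Q, η ≫ φ = (CochainComplex.single₀ V).map f ≫ ε := by
  obtain ⟨zero, hzero⟩ := h0 (f ≫ coaug ε)
  have h1' := h1 1 (zero ≫ Q.d 0 1) (by rw [← Category.assoc, hzero, Category.assoc, coaug_d, comp_zero])
  obtain ⟨one, hone⟩ := h1'
  have hsucc : ∀ (n : ℕ) (p : Σ' (f : P.X n ⟶ Q.X n) (f' : P.X (n + 1) ⟶ Q.X (n + 1)),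
      f ≫ Q.d n (n + 1) = P.d n (n + 1) ≫ f'),
      ∃ f'' : P.X (n + 2) ⟶ Q.X (n + 2), p.2.1 ≫ Q.d (n + 1) (n + 2) = P.d (n + 1) (n + 2) ≫ f'' := by
    rintro n ⟨f, f', hf⟩
    obtain ⟨g, hg⟩ := hs (n + 2) n (f' ≫ Q.d (n + 1) (n + 2)) (by
      rw [← Category.assoc, ← hf, Category.assoc, HomologicalComplex.d_comp_d, comp_zero])
    exact ⟨g, hg.symm⟩
  refine ⟨CochainComplex.mkHom P Q zero one hone.symm
    (fun n p => ⟨Classical.choose (hsucc n p), Classical.choose_spec (hsucc n p)⟩), ?_⟩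
  apply HomologicalComplex.from_single_hom_ext
  rw [HomologicalComplex.comp_f, HomologicalComplex.comp_f, CochainComplex.mkHom_f_0,
    CochainComplex.single₀_map_f_zero]
  exact hzero

theorem nonempty_cohomotopy (α β : P ⟶ Q) (hαβ : η ≫ α = η ≫ β)
    (h1 : ∀ (n : ℕ) (φ : P.X 0 ⟶ Q.X n), coaug η ≫ φ = 0 → ∃ ψ : P.X 1 ⟶ Q.X n, P.d 0 1 ≫ ψ = φ)
    (hs : ∀ (n m : ℕ) (φ : P.X (m + 1) ⟶ Q.X n), P.d m (m + 1) ≫ φ = 0 →
      ∃ ψ : P.X (m + 2) ⟶ Q.X n, P.d (m + 1) (m + 2) ≫ ψ = φ) :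
    Nonempty (Homotopy α β) := by
  refine ⟨Homotopy.equivSubZero.symm ?_⟩
  apply Classical.choice
  generalize he : α - β = e
  have he0 : coaug η ≫ e.f 0 = 0 := by
    rw [← he, HomologicalComplex.sub_f_apply, Preadditive.comp_sub, sub_eq_zero]
    exact congrArg (fun g => HomologicalComplex.Hom.f g 0) hαβ
  obtain ⟨zero, hzero⟩ := h1 0 (e.f 0) he0
  obtain ⟨one, hone⟩ := hs 1 0 (e.f 1 - zero ≫ Q.d 0 1) (by
    rw [Preadditive.comp_sub, ← Category.assoc, hzero, HomologicalComplex.Hom.comm, sub_self])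
  have hsucc : ∀ (n : ℕ) (p : Σ' (f : P.X (n + 1) ⟶ Q.X n) (f' : P.X (n + 2) ⟶ Q.X (n + 1)),
      e.f (n + 1) = f ≫ Q.d n (n + 1) + P.d (n + 1) (n + 2) ≫ f'),
      ∃ f'' : P.X (n + 3) ⟶ Q.X (n + 2),
        e.f (n + 2) = p.2.1 ≫ Q.d (n + 1) (n + 2) + P.d (n + 2) (n + 3) ≫ f'' := by
    rintro n ⟨f, f', hf⟩
    obtain ⟨g, hg⟩ := hs (n + 2) (n + 1) (e.f (n + 2) - f' ≫ Q.d (n + 1) (n + 2)) (by
      rw [Preadditive.comp_sub, ← Category.assoc, ← HomologicalComplex.Hom.comm, hf,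
        Preadditive.add_comp, Category.assoc, HomologicalComplex.d_comp_d, comp_zero, zero_add,
        Category.assoc, sub_self])
    exact ⟨g, by rw [hg]; simp⟩
  exact ⟨Homotopy.mkCoinductive e zero hzero.symm one (by rw [hone]; simp)
    (fun n p => ⟨Classical.choose (hsucc n p), Classical.choose_spec (hsucc n p)⟩)⟩

end cochain

end K571.RelRes
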