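import Groth.Agent.PureExt.K571.Lift
import Groth.Agent.PureExt.K571.Crit
import Groth.Agent.PureExt.K571.RelRes

/-!
# Pure projective and pure injective resolutions
-/

set_option autoImplicit false
universe u

namespace K571.PureRes

open CategoryTheory K571.PureBasic K571.PureLift MonoidalCategory

variable {R : Type u} [CommRing R]

section lemmas

variable {A B C D : Type u} [AddCommGroup A] [Module R A] [AddCommGroup B] [Module R B]
  [AddCommGroup C] [Module R C] [AddCommGroup D] [Module R D]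

theorem exists_lift (g : B →ₗ[R] C) (h : C →ₗ[R] D) (hex : Function.Exact g h)
    (hker : CAlgX.UniversallyInjective R (LinearMap.ker g).subtype) {P : Type u} [AddCommGroup P]
    [Module R P] (hP : PureProj (R := R) P) (φ : P →ₗ[R] C) (hφ : h ∘ₗ φ = 0) :
    ∃ ψ : P →ₗ[R] B, g ∘ₗ ψ = φ := by
  have hr : ∀ p, φ p ∈ LinearMap.range g := fun p => (hex (φ p)).mp (LinearMap.congr_fun hφ p)
  obtain ⟨ψ, hψ⟩ := hP g.rangeRestrict g.surjective_rangeRestrict
    (by rw [LinearMap.ker_rangeRestrict]; exact hker) (φ.codRestrict _ hr)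
  refine ⟨ψ, ?_⟩
  ext p
  exact congrArg Subtype.val (LinearMap.congr_fun hψ p)

theorem exists_ext (f : A →ₗ[R] B) (g : B →ₗ[R] C) (hex : Function.Exact f g)
    (hran : CAlgX.UniversallyInjective R (LinearMap.range g).subtype) {I : Type u} [AddCommGroup I]
    [Module R I] (hI : PureInj (R := R) I) (φ : B →ₗ[R] I) (hφ : φ ∘ₗ f = 0) :
    ∃ ψ : C →ₗ[R] I, ψ ∘ₗ g = φ := by
  obtain ⟨χ, hχ⟩ := exists_desc g.rangeRestrict g.surjective_rangeRestrict φ (by
    rw [LinearMap.ker_rangeRestrict]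
    intro b hb
    obtain ⟨a, rfl⟩ := (hex b).mp hb
    exact LinearMap.congr_fun hφ a)
  obtain ⟨ψ, hψ⟩ := hI (LinearMap.range g).subtype hran χ
  refine ⟨ψ, ?_⟩
  rw [← hχ, ← hψ]
  rfl

theorem ker_universallyInjective (f : A →ₗ[R] B) (g : B →ₗ[R] C) (h : C →ₗ[R] D)
    (h1 : ∀ (Q : Type u) [AddCommGroup Q] [Module R Q],
      Function.Exact (f.rTensor Q) (g.rTensor Q)) (h2 : Function.Exact g h) :
    CAlgX.UniversallyInjective R (LinearMap.ker h).subtype := by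
  have h3 := universallyInjective_range f g h1
  rwa [← h2.linearMap_ker_eq] at h3

end lemmas

section chain

variable (Q : ChainComplex (ModuleCat.{u} R) ℕ) {N : ModuleCat.{u} R}
  (ε : Q ⟶ (ChainComplex.single₀ (ModuleCat.{u} R)).obj N)
  (hQ : ∀ T : ModuleCat.{u} R,
    QuasiIso (((tensorRight T).mapHomologicalComplex (ComplexShape.down ℕ)).map ε))

include hQ

theorem uexact₀ (T : Type u) [AddCommGroup T] [Module R T] :
    Function.Exact ((Q.d 1 0).hom.rTensor T) ((PureCrit.aug Q ε).rTensor T) :=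
  ((PureCrit.quasiIso_tensor_iff Q ε (ModuleCat.of R T)).mp (hQ _)).1.2

theorem uexact_succ (n : ℕ) (T : Type u) [AddCommGroup T] [Module R T] :
    Function.Exact ((Q.d (n + 2) (n + 1)).hom.rTensor T) ((Q.d (n + 1) n).hom.rTensor T) :=
  ((PureCrit.quasiIso_tensor_iff Q ε (ModuleCat.of R T)).mp (hQ _)).2 n

theorem surj_aug : Function.Surjective (PureCrit.aug Q ε) := by
  have h := ((PureCrit.quasiIso_tensor_iff Q ε (ModuleCat.of R R)).mp (hQ _)).1.1
  intro x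
  obtain ⟨y, hy⟩ := h (x ⊗ₜ 1)
  refine ⟨TensorProduct.rid R _ y, ?_⟩
  have h2 : TensorProduct.rid R _ ((PureCrit.aug Q ε).rTensor R y) =
      PureCrit.aug Q ε (TensorProduct.rid R _ y) := by
    clear hy
    induction y with
    | zero => simp
    | tmul a b => simp
    | add a b ha hb => simp only [map_add, ha, hb]
  rw [← h2]
  exact (congrArg (TensorProduct.rid R _) hy).trans (by simp)

theorem lift₀ {P : ModuleCat.{u} R} (hP : PureProj (R := R) P) (φ : P ⟶ N) :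
    ∃ ψ : P ⟶ Q.X 0, ψ ≫ RelRes.aug ε = φ := by
  obtain ⟨ψ, hψ⟩ := hP (PureCrit.aug Q ε) (surj_aug Q ε hQ)
    (ker_universallyInjective (Q.d 2 1).hom (Q.d 1 0).hom (PureCrit.aug Q ε)
      (fun T _ _ => uexact_succ Q ε hQ 0 T)
      (exact_of_universallyExact _ _ (fun T _ _ => uexact₀ Q ε hQ T))) φ.hom
  exact ⟨ModuleCat.ofHom ψ, ModuleCat.hom_ext hψ⟩

theorem lift₁ {P : ModuleCat.{u} R} (hP : PureProj (R := R) P) (φ : P ⟶ Q.X 0)
    (hφ : φ ≫ RelRes.aug ε = 0) : ∃ ψ : P ⟶ Q.X 1, ψ ≫ Q.d 1 0 = φ := by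
  obtain ⟨ψ, hψ⟩ := exists_lift (Q.d 1 0).hom (PureCrit.aug Q ε)
    (exact_of_universallyExact _ _ (fun T _ _ => uexact₀ Q ε hQ T))
    (ker_universallyInjective (Q.d 3 2).hom (Q.d 2 1).hom (Q.d 1 0).hom
      (fun T _ _ => uexact_succ Q ε hQ 1 T)
      (exact_of_universallyExact _ _ (fun T _ _ => uexact_succ Q ε hQ 0 T)))
    hP φ.hom (congrArg ModuleCat.Hom.hom hφ)
  exact ⟨ModuleCat.ofHom ψ, ModuleCat.hom_ext hψ⟩

theorem liftSucc {P : ModuleCat.{u} R} (hP : PureProj (R := R) P) (m : ℕ) (φ : P ⟶ Q.X (m + 1))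
    (hφ : φ ≫ Q.d (m + 1) m = 0) : ∃ ψ : P ⟶ Q.X (m + 2), ψ ≫ Q.d (m + 2) (m + 1) = φ := by
  obtain ⟨ψ, hψ⟩ := exists_lift (Q.d (m + 2) (m + 1)).hom (Q.d (m + 1) m).hom
    (exact_of_universallyExact _ _ (fun T _ _ => uexact_succ Q ε hQ m T))
    (ker_universallyInjective (Q.d (m + 4) (m + 3)).hom (Q.d (m + 3) (m + 2)).hom
      (Q.d (m + 2) (m + 1)).hom
      (fun T _ _ => uexact_succ Q ε hQ (m + 2) T)
      (exact_of_universallyExact _ _ (fun T _ _ => uexact_succ Q ε hQ (m + 1) T)))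
    hP φ.hom (congrArg ModuleCat.Hom.hom hφ)
  exact ⟨ModuleCat.ofHom ψ, ModuleCat.hom_ext hψ⟩

end chain

section cochain

variable (P : CochainComplex (ModuleCat.{u} R) ℕ) {M : ModuleCat.{u} R}
  (η : (CochainComplex.single₀ (ModuleCat.{u} R)).obj M ⟶ P)
  (hP : ∀ T : ModuleCat.{u} R,
    QuasiIso (((tensorRight T).mapHomologicalComplex (ComplexShape.up ℕ)).map η))

include hP

theorem co_uinj : CAlgX.UniversallyInjective R (PureCrit.coaug P η) := fun T _ _ =>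
  ((PureCrit.coquasiIso_tensor_iff P η (ModuleCat.of R T)).mp (hP _)).1.1

theorem co_uexact₀ (T : Type u) [AddCommGroup T] [Module R T] :
    Function.Exact ((PureCrit.coaug P η).rTensor T) ((P.d 0 1).hom.rTensor T) :=
  ((PureCrit.coquasiIso_tensor_iff P η (ModuleCat.of R T)).mp (hP _)).1.2

theorem co_uexact_succ (n : ℕ) (T : Type u) [AddCommGroup T] [Module R T] :
    Function.Exact ((P.d n (n + 1)).hom.rTensor T) ((P.d (n + 1) (n + 2)).hom.rTensor T) :=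
  ((PureCrit.coquasiIso_tensor_iff P η (ModuleCat.of R T)).mp (hP _)).2 n

theorem ext₀ {I : ModuleCat.{u} R} (hI : PureInj (R := R) I) (φ : M ⟶ I) :
    ∃ ψ : P.X 0 ⟶ I, RelRes.coaug η ≫ ψ = φ := by
  obtain ⟨ψ, hψ⟩ := hI (PureCrit.coaug P η) (co_uinj P η hP) φ.hom
  exact ⟨ModuleCat.ofHom ψ, ModuleCat.hom_ext hψ⟩

theorem ext₁ {I : ModuleCat.{u} R} (hI : PureInj (R := R) I) (φ : P.X 0 ⟶ I)
    (hφ : RelRes.coaug η ≫ φ = 0) : ∃ ψ : P.X 1 ⟶ I, P.d 0 1 ≫ ψ = φ := by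
  obtain ⟨ψ, hψ⟩ := exists_ext (PureCrit.coaug P η) (P.d 0 1).hom
    (exact_of_universallyExact _ _ (fun T _ _ => co_uexact₀ P η hP T))
    (universallyInjective_range _ _ (fun T _ _ => co_uexact₀ P η hP T))
    hI φ.hom (congrArg ModuleCat.Hom.hom hφ)
  exact ⟨ModuleCat.ofHom ψ, ModuleCat.hom_ext hψ⟩

theorem extSucc {I : ModuleCat.{u} R} (hI : PureInj (R := R) I) (m : ℕ) (φ : P.X (m + 1) ⟶ I)
    (hφ : P.d m (m + 1) ≫ φ = 0) : ∃ ψ : P.X (m + 2) ⟶ I, P.d (m + 1) (m + 2) ≫ ψ = φ := by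
  obtain ⟨ψ, hψ⟩ := exists_ext (P.d m (m + 1)).hom (P.d (m + 1) (m + 2)).hom
    (exact_of_universallyExact _ _ (fun T _ _ => co_uexact_succ P η hP m T))
    (universallyInjective_range _ _ (fun T _ _ => co_uexact_succ P η hP m T))
    hI φ.hom (congrArg ModuleCat.Hom.hom hφ)
  exact ⟨ModuleCat.ofHom ψ, ModuleCat.hom_ext hψ⟩

end cochain

end K571.PureRes
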